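import Mathlib.FieldTheory.Galois.Basic
import Mathlib.FieldTheory.PurelyInseparable.Basic
import Mathlib.FieldTheory.PurelyInseparable.PerfectClosure
import Mathlib.RingTheory.Spectrum.Prime.Homeomorph
import Mathlib.RingTheory.LocalRing.Length
import Mathlib.RingTheory.Unramified.LocalRing
import Mathlib.RingTheory.Artinian.Ring
import Mathlib.RingTheory.HopkinsLevitzki
import Mathlib.LinearAlgebra.TensorProduct.Basis
import Mathlib.LinearAlgebra.Dimension.Constructions
import Mathlib.RingTheory.TensorProduct.Maps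

/-!
Tensor products of a field with a finite normal extension: the automorphism group acts transitively
on the primes, and the lengths of the local rings divide the inseparable degree.
-/

set_option autoImplicit false
universe u

open TensorProduct IsLocalRing

namespace GrothLib.CycGal13

/-- If the invariants of `G` on `N` come from `N₀`, the same holds after tensoring over a field. -/
theorem mem_range_lTensor_of_fixed {k : Type u} [Field k] {M N₀ N : Type u} [AddCommGroup M]
    [Module k M] [AddCommGroup N₀] [Module k N₀] [AddCommGroup N] [Module k N] (j : N₀ →ₗ[k] N)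
    {G : Type*} (a : G → (N →ₗ[k] N))
    (hfix : ∀ y : N, (∀ g, a g y = y) → y ∈ LinearMap.range j)
    (b : M ⊗[k] N) (hb : ∀ g, (a g).lTensor M b = b) : b ∈ LinearMap.range (j.lTensor M) := by
  let ℬ := Module.Free.chooseBasis k M
  let E := TensorProduct.equivFinsuppOfBasisLeft (N := N) ℬ
  have nat : ∀ (g : G) (x : M ⊗[k] N) i, E ((a g).lTensor M x) i = a g (E x i) := by
    intro g x i
    induction x using TensorProduct.induction_on with
    | zero => simp
    | tmul m n => simp [E, TensorProduct.equivFinsuppOfBasisLeft_apply_tmul_apply]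
    | add x y hx hy => simp only [map_add, Finsupp.add_apply, hx, hy]
  rw [← E.symm_apply_apply b, TensorProduct.equivFinsuppOfBasisLeft_symm_apply]
  refine Submodule.sum_mem _ fun i _ => ?_
  obtain ⟨y, hy⟩ := hfix (E b i) fun g => by rw [← nat, hb]
  exact ⟨ℬ i ⊗ₜ y, by simp [hy]⟩

variable (k k' : Type u) [Field k] [Field k'] [Algebra k k'] [FiniteDimensional k k'] [Normal k k']

/-- The field of invariants of the automorphism group. -/
abbrev fixK : IntermediateField k k' := IntermediateField.fixedField (⊤ : Subgroup (k' ≃ₐ[k] k'))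

omit [Normal k k'] in
theorem isGalois_fixK : IsGalois (fixK k k') k' := IsGalois.of_fixed_field k' _

omit [Normal k k'] in
theorem finrank_fixK_top : Module.finrank (fixK k k') k' = Nat.card (k' ≃ₐ[k] k') := by
  rw [IntermediateField.finrank_fixedField_eq_card, Nat.card_congr Subgroup.topEquiv.toEquiv]

theorem finSepDegree_eq_card : Field.finSepDegree k k' = Nat.card (k' ≃ₐ[k] k') :=
  Nat.card_congr (Normal.algHomEquivAut k (AlgebraicClosure k') k')

theorem isPurelyInseparable_fixK : IsPurelyInseparable k (fixK k k') := by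
  haveI := isGalois_fixK k k'
  have h := Field.finSepDegree_mul_finSepDegree_of_isAlgebraic k (fixK k k') k'
  rw [(Field.finSepDegree_eq_finrank_iff (fixK k k') k').2 inferInstance, finrank_fixK_top,
    finSepDegree_eq_card k k'] at h
  exact (isPurelyInseparable_iff_finSepDegree_eq_one k _).2
    (Nat.eq_of_mul_eq_mul_right (Nat.card_pos (α := k' ≃ₐ[k] k')) (h.trans (one_mul _).symm))

theorem finInsepDegree_eq : Field.finInsepDegree k k' = Module.finrank k (fixK k k') := by
  have h := Field.finSepDegree_mul_finInsepDegree k k'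
  rw [← Module.finrank_mul_finrank k (fixK k k') k', finrank_fixK_top, finSepDegree_eq_card,
    mul_comm (Module.finrank k _)] at h
  exact Nat.eq_of_mul_eq_mul_left (Nat.card_pos (α := k' ≃ₐ[k] k')) h

/-- Tensor with a purely inseparable extension: nilpotent or unit. -/
theorem isNilpotent_or_isUnit (κ K : Type u) [Field κ] [Field K] [Algebra k κ] [Algebra k K]
    [IsPurelyInseparable k K] (b : κ ⊗[k] K) : IsNilpotent b ∨ IsUnit b := by
  obtain ⟨n, hn, c, hc⟩ := IsPurelyInseparable.exists_pow_mem_range_tensorProduct (k := k) (K := K)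
    (R := κ) b
  rcases eq_or_ne c 0 with rfl | hne
  · exact .inl ⟨n, by rw [← hc, map_zero]⟩
  · exact .inr ((isUnit_pow_iff hn.ne').1 (hc ▸ (IsUnit.mk0 c hne).map _))

variable (κ : Type u) [Field κ] [Algebra k κ]

/-- The automorphisms act transitively on the primes. -/
theorem exists_comap_eq (P Q : Ideal (κ ⊗[k] k')) [hP : P.IsPrime] [hQ : Q.IsPrime] :
    ∃ σ : k' ≃ₐ[k] k',
      Q = P.comap (Algebra.TensorProduct.map (AlgHom.id k κ) σ.toAlgHom).toRingHom := by
  classical
  haveI := Fintype.ofFinite (k' ≃ₐ[k] k')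
  haveI := isPurelyInseparable_fixK k k'
  haveI : IsArtinianRing (κ ⊗[k] k') := IsArtinianRing.of_finite κ _
  let τ : (k' ≃ₐ[k] k') → (κ ⊗[k] k' →ₐ[k] κ ⊗[k] k') := fun σ =>
    Algebra.TensorProduct.map (AlgHom.id k κ) σ.toAlgHom
  have τ_comp : ∀ ρ σ x, τ ρ (τ σ x) = τ (ρ * σ) x := by
    intro ρ σ x
    induction x using TensorProduct.induction_on with
    | zero => simp
    | tmul c y => simp [τ]
    | add x y hx hy => simp only [map_add, hx, hy]
  have key : ∀ b ∈ Q, ∃ σ, τ σ b ∈ P := by
    intro b hb
    let c := ∏ σ, τ σ b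
    have hc : c ∈ Q := by
      refine Ideal.prod_mem Q (Finset.mem_univ 1) ?_
      have : τ 1 b = b := by
        have h1 : τ 1 = AlgHom.id k _ := Algebra.TensorProduct.ext (by ext x; simp [τ]) (by ext; simp [τ])
        rw [h1]; rfl
      rwa [this]
    have hinv : ∀ ρ : k' ≃ₐ[k] k', τ ρ c = c := fun ρ => by
      simp only [c, map_prod, τ_comp]
      exact Fintype.prod_equiv (Equiv.mulLeft ρ) _ _ fun σ => rfl
    obtain ⟨r, hr⟩ := mem_range_lTensor_of_fixed (M := κ) (fixK k k').val.toLinearMap
      (fun σ : k' ≃ₐ[k] k' => σ.toAlgHom.toLinearMap)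
      (fun y hy => ⟨⟨y, (IntermediateField.mem_fixedField_iff _ y).2 fun σ _ => hy σ⟩, rfl⟩) c
      (fun ρ => hinv ρ)
    let ι := Algebra.TensorProduct.map (AlgHom.id k κ) (fixK k k').val
    have hr' : ι r = c := hr
    rcases isNilpotent_or_isUnit k κ _ r with hn | hu
    · obtain ⟨n, hn⟩ := hn.map ι
      rw [hr'] at hn
      obtain ⟨σ, -, hσ⟩ := hP.prod_mem_iff.1 (hP.mem_of_pow_mem n (hn ▸ P.zero_mem))
      exact ⟨σ, hσ⟩
    · exact absurd (Ideal.eq_top_of_isUnit_mem _ hc (hr' ▸ hu.map ι)) hQ.ne_top
  have hsub : (Q : Set (κ ⊗[k] k')) ⊆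
      ⋃ σ ∈ (↑(Finset.univ : Finset (k' ≃ₐ[k] k')) : Set _), ↑(P.comap (τ σ).toRingHom) := fun b hb => by
    obtain ⟨σ, hσ⟩ := key b hb
    exact Set.mem_biUnion (by simp) (show b ∈ P.comap (τ σ).toRingHom from hσ)
  obtain ⟨σ, -, hσ⟩ := (Ideal.subset_union_prime (s := Finset.univ)
    (f := fun σ => P.comap (τ σ).toRingHom) 1 1 (fun _ _ _ _ => inferInstance)).1 hsub
  haveI := hQ.isMaximal'
  exact ⟨σ, Ideal.IsMaximal.eq_of_le ‹_› (Ideal.comap_ne_top _ hP.ne_top) hσ⟩

/-- A base change of a finite separable field extension is unramified, so localisations have the length of the base. -/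
theorem length_localization_eq {K L : Type u} [Field K] [Field L] [Algebra K L] [FiniteDimensional K L]
    [Algebra.IsSeparable K L] (R : Type u) [CommRing R] [Algebra K R] [IsLocalRing R]
    (hR : ∀ r : R, IsNilpotent r ∨ IsUnit r) (q : Ideal (R ⊗[K] L)) [q.IsPrime]
    (S : Type u) [CommRing S] [Algebra (R ⊗[K] L) S] [IsLocalization.AtPrime S q] :
    Module.length S S = Module.length R R := by
  letI : Algebra R S := ((algebraMap (R ⊗[K] L) S).comp (algebraMap R (R ⊗[K] L))).toAlgebra
  haveI : IsScalarTower R (R ⊗[K] L) S := IsScalarTower.of_algebraMap_eq' rfl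
  haveI : IsLocalRing S := IsLocalization.AtPrime.isLocalRing S q
  haveI : Algebra.FormallyUnramified K L := Algebra.FormallyUnramified.of_isSeparable K L
  haveI : Algebra.FormallyUnramified (R ⊗[K] L) S :=
    Algebra.FormallyUnramified.of_isLocalization q.primeCompl
  haveI : Algebra.FormallyUnramified R S := Algebra.FormallyUnramified.comp R (R ⊗[K] L) S
  haveI : Algebra.EssFiniteType (R ⊗[K] L) S := Algebra.EssFiniteType.of_isLocalization S q.primeCompl
  haveI : Algebra.EssFiniteType R S := Algebra.EssFiniteType.comp R (R ⊗[K] L) S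
  haveI : Module.Flat (R ⊗[K] L) S := IsLocalization.flat S q.primeCompl
  haveI : Module.Flat R S := Module.Flat.trans R (R ⊗[K] L) S
  haveI : IsLocalHom (algebraMap R S) := ⟨fun r hr => (hR r).resolve_left fun hn =>
    (hn.map (algebraMap R S)).not_isUnit hr⟩
  have hm : (maximalIdeal R).map (algebraMap R S) = maximalIdeal S :=
    Algebra.FormallyUnramified.map_maximalIdeal
  have h1 := IsLocalRing.length_baseChange R S R
  rw [(TensorProduct.AlgebraTensorModule.rid R S S).length_eq, hm] at h1
  haveI : IsSimpleModule S (S ⧸ maximalIdeal S) :=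
    isSimpleModule_iff_isCoatom.2 (maximalIdeal.isMaximal _).out
  rwa [Module.length_eq_one (R := S) (M := S ⧸ maximalIdeal S), mul_one] at h1

/-- The length of a finite local algebra over a field divides its dimension. -/
theorem exists_length_dvd (B : Type u) [CommRing B] [Algebra κ B] [IsLocalRing B] [Module.Finite κ B] :
    ∃ l : ℕ, Module.length B B = l ∧ l ∣ Module.finrank κ B := by
  haveI : IsArtinianRing B := IsArtinianRing.of_finite κ B
  obtain ⟨l, hl⟩ := ENat.ne_top_iff_exists.1 (Module.length_ne_top (R := B) (M := B))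
  haveI : IsLocalHom (algebraMap κ B) := ⟨fun x hx => isUnit_iff_ne_zero.2 fun h0 => by
    rw [h0, map_zero] at hx
    exact not_isUnit_zero hx⟩
  haveI : Module.Finite κ (ResidueField B) :=
    Module.Finite.of_surjective (IsScalarTower.toAlgHom κ B (ResidueField B)).toLinearMap
      residue_surjective
  have h1 := IsLocalRing.length_restrictScalars κ B B
  rw [Module.length_eq_finrank κ B, Module.length_eq_finrank (ResidueField κ) (ResidueField B), ← hl] at h1
  exact ⟨l, hl.symm, ⟨_, by exact_mod_cast h1⟩⟩

theorem length_ringEquiv {A B : Type u} [CommRing A] [CommRing B] (e : A ≃+* B) :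
    Module.length A A = Module.length B B := by
  letI := e.toRingHom.toAlgebra
  rw [← Module.length_eq_of_surjective (S := A) (R := B) (M := B) e.surjective]
  exact (AlgEquiv.ofBijective (Algebra.ofId A B) e.bijective).toLinearEquiv.length_eq

omit [FiniteDimensional k k'] [Normal k k'] in
/-- The local rings of `κ ⊗ k'` have the length of `κ ⊗ K` for a purely inseparable `K/k` with `k'/K` separable. -/
theorem length_localization_eq' (K : Type u) [Field K] [Algebra k K] [Algebra K k']
    [IsScalarTower k K k'] [FiniteDimensional K k'] [Algebra.IsSeparable K k'] [IsPurelyInseparable k K]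
    [IsLocalRing (κ ⊗[k] K)] (q : Ideal (κ ⊗[k] k')) [q.IsPrime] (S : Type u) [CommRing S]
    [Algebra (κ ⊗[k] k') S] [IsLocalization.AtPrime S q] :
    Module.length S S = Module.length (κ ⊗[k] K) (κ ⊗[k] K) := by
  let c : (K ⊗[k] κ) ≃ₐ[k] κ ⊗[k] K := Algebra.TensorProduct.comm k K κ
  haveI : IsLocalRing (K ⊗[k] κ) := RingEquiv.isLocalRing (A := κ ⊗[k] K) c.symm.toRingEquiv
  let e : (K ⊗[k] κ) ⊗[K] k' ≃+* κ ⊗[k] k' :=
    ((Algebra.TensorProduct.comm K (K ⊗[k] κ) k').toRingEquiv.trans
      (Algebra.TensorProduct.cancelBaseChange k K K k' κ).toRingEquiv).trans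
      (Algebra.TensorProduct.comm k k' κ).toRingEquiv
  letI : Algebra ((K ⊗[k] κ) ⊗[K] k') S := ((algebraMap (κ ⊗[k] k') S).comp e.toRingHom).toAlgebra
  haveI : IsLocalization.AtPrime S (q.comap e.toRingHom) := by
    have h := IsLocalization.isLocalization_of_base_ringEquiv q.primeCompl S e.symm
    have heq : q.primeCompl.map e.symm = (q.comap e.toRingHom).primeCompl := by
      ext x
      constructor
      · rintro ⟨y, hy, rfl⟩ hx
        exact hy (by simpa using hx)
      · exact fun hx => ⟨e x, hx, e.symm_apply_apply x⟩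
    rw [heq] at h
    exact h
  rw [length_localization_eq (K ⊗[k] κ) (fun r => (isNilpotent_or_isUnit k κ K (c r)).imp
      (fun h => (IsNilpotent.map_iff c.injective).1 h) (fun h => (MulEquiv.isUnit_map c).1 h))
    (q.comap e.toRingHom) S]
  exact length_ringEquiv c.toRingEquiv

/-- All local rings of `κ ⊗ k'` have the same length, dividing the inseparable degree. -/
theorem exists_length_localization :
    ∃ l : ℕ, l ∣ Field.finInsepDegree k k' ∧ 0 < l ∧
      ∀ (q : Ideal (κ ⊗[k] k')) [q.IsPrime] (S : Type u) [CommRing S] [Algebra (κ ⊗[k] k') S]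
        [IsLocalization.AtPrime S q], Module.length S S = l := by
  haveI := isPurelyInseparable_fixK k k'
  haveI := isGalois_fixK k k'
  let K := fixK k k'
  haveI : Nontrivial (κ ⊗[k] K) :=
    (Algebra.TensorProduct.includeLeft_injective (R := k) (S := k) (A := κ) (B := K)
      (FaithfulSMul.algebraMap_injective k K)).nontrivial
  haveI : IsLocalRing (κ ⊗[k] K) := .of_nonunits_add fun a b ha hb hu =>
    ((Commute.all a b).isNilpotent_add ((isNilpotent_or_isUnit k κ _ a).resolve_right ha)
      ((isNilpotent_or_isUnit k κ _ b).resolve_right hb)).not_isUnit hu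
  obtain ⟨l, hl, hdvd⟩ := exists_length_dvd κ (κ ⊗[k] K)
  rw [Module.finrank_baseChange, ← finInsepDegree_eq] at hdvd
  refine ⟨l, hdvd, Nat.pos_of_ne_zero ?_, ?_⟩
  · rintro rfl
    exact not_subsingleton (κ ⊗[k] K) (Module.length_eq_zero_iff.1 hl)
  intro q _ S _ _ _
  rw [length_localization_eq' k k' κ K q S, hl]

end GrothLib.CycGal13
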