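import Groth.Agent.Lib.CycGal13.Algebra
import Groth.Agent.Lib.FibreFlat.Stalk
import Groth.Agent.Lib.CycFlat.Length
import Mathlib.AlgebraicGeometry.Pullbacks
import Mathlib.AlgebraicGeometry.Noetherian

/-!
Descent of cycles along a finite normal field extension.
-/

set_option autoImplicit false
universe u

open CategoryTheory Limits AlgebraicGeometry TensorProduct IsLocalRing

namespace GrothLib.CycGal13

variable {k : Type u} [Field k] {k' : Type u} [Field k'] [Algebra k k'] [FiniteDimensional k k']
  [Normal k k'] {X : Scheme.{u}} (f : X ⟶ Spec (CommRingCat.of k))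

variable (k') in
/-- The projection from the base change. -/
noncomputable abbrev proj : pullback f (Spec.map (CommRingCat.ofHom (algebraMap k k'))) ⟶ X :=
  pullback.fst f (Spec.map (CommRingCat.ofHom (algebraMap k k')))

omit [FiniteDimensional k k'] [Normal k k'] in
theorem exists_fibre (x : X) : ∃ (κ : Type u) (_ : Field κ) (_ : Algebra k κ)
    (e : (proj k' f).fiber x ≅ Spec (CommRingCat.of (κ ⊗[k] k'))) (c : Spec (CommRingCat.of κ) ⟶ X),
    e.inv ≫ (proj k' f).fiberι x ≫ proj k' f =
        Spec.map (CommRingCat.ofHom Algebra.TensorProduct.includeLeftRingHom) ≫ c ∧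
      e.inv ≫ (proj k' f).fiberι x ≫ pullback.snd f _ =
        Spec.map (CommRingCat.ofHom (Algebra.TensorProduct.includeRight (A := κ) (B := k')
          (R := k)).toRingHom) := by
  let φ : CommRingCat.of k ⟶ X.residueField x := Spec.preimage (X.fromSpecResidueField x ≫ f)
  letI : Algebra k (X.residueField x) := φ.hom.toAlgebra
  have hφ : Spec.map (CommRingCat.ofHom (algebraMap k (X.residueField x))) = X.fromSpecResidueField x ≫ f :=
    Spec.map_preimage (X.fromSpecResidueField x ≫ f)
  let t := Spec.map (CommRingCat.ofHom (algebraMap k k'))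
  let g := proj k' f
  have h1 : IsPullback (g.fiberToSpecResidueField x) (g.fiberι x) (X.fromSpecResidueField x) g :=
    (IsPullback.of_hasPullback g (X.fromSpecResidueField x)).flip
  have h2 := h1.paste_vert (IsPullback.of_hasPullback f t)
  rw [← hφ] at h2
  refine ⟨X.residueField x, inferInstance, inferInstance,
    h2.isoPullback ≪≫ pullbackSpecIso k (X.residueField x) k', X.fromSpecResidueField x, ?_, ?_⟩
  · simp only [Iso.trans_inv, Category.assoc]
    rw [← h1.w, h2.isoPullback_inv_fst_assoc, ← Category.assoc, pullbackSpecIso_inv_fst]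
  · simp only [Iso.trans_inv, Category.assoc]
    rw [h2.isoPullback_inv_snd, pullbackSpecIso_inv_snd]
    rfl

/-- Points of one fibre are conjugate under the automorphism group. -/
theorem exists_conj (x' y' : ↥(pullback f (Spec.map (CommRingCat.ofHom (algebraMap k k')))))
    (h : proj k' f x' = proj k' f y') :
    ∃ (σ : k' ≃ₐ[k] k') (t : pullback f (Spec.map (CommRingCat.ofHom (algebraMap k k'))) ⟶
        pullback f (Spec.map (CommRingCat.ofHom (algebraMap k k')))),
      t ≫ proj k' f = proj k' f ∧
      t ≫ pullback.snd f _ = pullback.snd f _ ≫ Spec.map (CommRingCat.ofHom σ.toAlgHom.toRingHom) ∧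
      t.base x' = y' := by
  obtain ⟨κ, _, _, e, c, h1, h2⟩ := exists_fibre (k' := k') f (proj k' f y')
  let g := proj k' f
  have hx : x' ∈ Set.range (g.fiberι (g y')) := by rw [g.range_fiberι]; exact h
  have hy : y' ∈ Set.range (g.fiberι (g y')) := by rw [g.range_fiberι]; exact rfl
  obtain ⟨a, ha⟩ := hx
  obtain ⟨b, hb⟩ := hy
  let j := e.inv ≫ g.fiberι (g y')
  let P : PrimeSpectrum (κ ⊗[k] k') := e.hom a
  let Q : PrimeSpectrum (κ ⊗[k] k') := e.hom b
  obtain ⟨σ, hσ⟩ := exists_comap_eq k k' κ P.asIdeal Q.asIdeal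
  have w : g ≫ f = (pullback.snd f (Spec.map (CommRingCat.ofHom (algebraMap k k'))) ≫
      Spec.map (CommRingCat.ofHom σ.toAlgHom.toRingHom)) ≫
      Spec.map (CommRingCat.ofHom (algebraMap k k')) := by
    rw [Category.assoc, ← Spec.map_comp, ← CommRingCat.ofHom_comp, AlgHom.toRingHom_eq_coe,
      AlgHom.comp_algebraMap]
    exact pullback.condition
  let t := pullback.lift g _ w
  refine ⟨σ, t, pullback.lift_fst _ _ w, pullback.lift_snd _ _ w, ?_⟩
  let τ := Algebra.TensorProduct.map (AlgHom.id k κ) σ.toAlgHom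
  have hj : j ≫ t = Spec.map (CommRingCat.ofHom τ.toRingHom) ≫ j := by
    apply pullback.hom_ext
    · simp only [t, j, Category.assoc, pullback.lift_fst]
      rw [h1, ← Category.assoc, ← Spec.map_comp]
      congr 2
      ext y
      simp [τ]
    · simp only [t, j, Category.assoc, pullback.lift_snd]
      rw [reassoc_of% h2, h2, ← Spec.map_comp, ← Spec.map_comp]
      congr 1
  have hjP : j P = x' := by simp [j, P, ha]
  have hjQ : j Q = y' := by simp [j, Q, hb]
  have hPQ : Spec.map (CommRingCat.ofHom τ.toRingHom) P = Q := PrimeSpectrum.ext hσ.symm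
  calc t.base x' = (j ≫ t) P := by rw [Scheme.Hom.comp_apply, hjP]
    _ = (Spec.map (CommRingCat.ofHom τ.toRingHom) ≫ j) P := by rw [hj]
    _ = y' := by rw [Scheme.Hom.comp_apply, hPQ, hjQ]

theorem length_quotient_ker {A B : Type u} [CommRing A] [CommRing B] (φ : A →+* B)
    (hφ : Function.Surjective φ) : Module.length A (A ⧸ RingHom.ker φ) = Module.length B B := by
  letI := φ.toAlgebra
  rw [← Module.length_eq_of_surjective (S := A) (R := B) (M := B) hφ]
  exact (Ideal.quotientKerAlgEquivOfSurjective (f := Algebra.ofId A B) hφ).toLinearEquiv.length_eq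

/-- The multiplicity is constant on fibres and divides the inseparable degree. -/
theorem exists_fibLength (x : X) : ∃ l : ℕ, l ∣ Field.finInsepDegree k k' ∧ 0 < l ∧
    ∀ x', proj k' f x' = x → GrothLib.CycFlat.fibLength (proj k' f) x' = l := by
  obtain ⟨κ, _, _, e, c, -, -⟩ := exists_fibre (k' := k') f x
  obtain ⟨l, hdvd, hpos, hl⟩ := exists_length_localization k k' κ
  refine ⟨l, hdvd, hpos, fun x' hx => ?_⟩
  let g := proj k' f
  subst hx
  let z := g.asFiber x'
  let q : PrimeSpectrum (κ ⊗[k] k') := e.hom z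
  obtain ⟨hsurj, hker⟩ := GrothLib.FibreFlat.fiberι_stalkMap' g (g x') z x' (g.fiberι_asFiber x')
  let ι : (Spec (CommRingCat.of (κ ⊗[k] k'))).presheaf.stalk q ≅ (g.fiber (g x')).presheaf.stalk z :=
    asIso (e.hom.stalkMap z)
  letI : Algebra (κ ⊗[k] k') ((Spec (CommRingCat.of (κ ⊗[k] k'))).presheaf.stalk q) :=
    StructureSheaf.stalkAlgebra (κ ⊗[k] k') q
  haveI : IsLocalization.AtPrime ((Spec (CommRingCat.of (κ ⊗[k] k'))).presheaf.stalk q) q.asIdeal :=
    StructureSheaf.IsLocalization.to_stalk (κ ⊗[k] k') q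
  let ψ := ι.inv.hom.comp
    (((pullback f (Spec.map (CommRingCat.ofHom (algebraMap k k')))).presheaf.stalkCongr
      (.of_eq (g.fiberι_asFiber x').symm)).hom ≫ (g.fiberι (g x')).stalkMap z).hom
  have hι : Function.Bijective ι.inv.hom := ConcreteCategory.bijective_of_isIso ι.inv
  have hψs : Function.Surjective ψ := hι.2.comp hsurj
  have hψk : RingHom.ker ψ =
      (maximalIdeal (X.presheaf.stalk (g x'))).map (g.stalkMap x').hom := by
    rw [← hker]
    exact RingHom.ker_comp_of_injective _ hι.1
  rw [← hl q.asIdeal ((Spec (CommRingCat.of (κ ⊗[k] k'))).presheaf.stalk q), ← length_quotient_ker ψ hψs, hψk]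

omit [FiniteDimensional k k'] [Normal k k'] in
theorem proj_surjective (x : X) : ∃ x', proj k' f x' = x := by
  haveI : Surjective (Spec.map (CommRingCat.ofHom (algebraMap k k'))) := ⟨fun y => by
    haveI : Subsingleton ↥(Spec (CommRingCat.of k)) := inferInstanceAs (Subsingleton (PrimeSpectrum k))
    exact ⟨Classical.arbitrary (PrimeSpectrum k'), Subsingleton.elim _ _⟩⟩
  exact (proj k' f).surjective x

theorem existsUnique_descent [QuasiCompact f]
    (Z' : AlgebraicCycle (pullback f (Spec.map (CommRingCat.ofHom (algebraMap k k')))) ℤ)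
    (hZ' : ∀ (σ : k' ≃ₐ[k] k')
      (t : pullback f (Spec.map (CommRingCat.ofHom (algebraMap k k'))) ⟶
        pullback f (Spec.map (CommRingCat.ofHom (algebraMap k k')))),
      t ≫ pullback.fst f _ = pullback.fst f _ →
      t ≫ pullback.snd f _ = pullback.snd f _ ≫ Spec.map (CommRingCat.ofHom σ.toAlgHom.toRingHom) →
      ∀ x', Z' (t.base x') = Z' x') :
    ∃! Z : AlgebraicCycle X ℤ, ∀ x' : ↥(pullback f (Spec.map (CommRingCat.ofHom (algebraMap k k')))),
      (Field.finInsepDegree k k' : ℤ) * Z' x' =
        Cyc.pullFun (proj k' f) (fun _ => 0) (fun _ => 0) 0 ⇑Z x' := by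
  choose s hs using proj_surjective (k' := k') f
  choose l hdvd hpos hl using exists_fibLength (k' := k') f
  have hlen : ∀ x', (GrothLib.CycFlat.fibLength (proj k' f) x').toNat = l (proj k' f x') := fun x' => by
    rw [hl _ x' rfl, ENat.toNat_coe]
  have hinv : ∀ x', Z' x' = Z' (s (proj k' f x')) := fun x' => by
    obtain ⟨σ, t, h1, h2, h3⟩ := exists_conj f (s (proj k' f x')) x' (hs _)
    rw [← hZ' σ t h1 h2 (s (proj k' f x')), h3]
  let F : X → ℤ := fun x => ((Field.finInsepDegree k k' / l x : ℕ) : ℤ) * Z' (s x)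
  haveI : CompactSpace X := QuasiCompact.compactSpace_of_compactSpace f
  haveI : CompactSpace ↥(pullback f (Spec.map (CommRingCat.ofHom (algebraMap k k')))) :=
    QuasiCompact.compactSpace_of_compactSpace (pullback.snd f _)
  have hfin : {x' | Z' x' ≠ 0}.Finite :=
    ((Function.locallyFinsupp.locallyFiniteSupport Z').finite_inter_support_of_isCompact
      isCompact_univ).subset fun _ hx => ⟨trivial, hx⟩
  have hF : F.support.Finite := (hfin.image (proj k' f)).subset fun x hx =>
    ⟨s x, fun h => hx (by simp [F, h]), hs x⟩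
  let Z : AlgebraicCycle X ℤ :=
    { toFun := F
      supportWithinDomain' := Set.subset_univ _
      supportLocallyFiniteWithinDomain' := fun x _ => ⟨Set.univ, Filter.univ_mem, by simpa using hF⟩ }
  have hpull : ∀ (α : X → ℤ) x', Cyc.pullFun (proj k' f) (fun _ => 0) (fun _ => 0) 0 α x' =
      α (proj k' f x') * (l (proj k' f x') : ℤ) := fun α x' => by
    rw [GrothLib.CycFlat.pullFun_apply, if_pos (add_zero (0 : ℤ)).symm, hlen]
  refine ⟨Z, fun x' => ?_, fun Y hY => ?_⟩
  · rw [hpull, hinv x']
    show _ = F _ * _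
    simp only [F]
    have := congrArg (Nat.cast (R := ℤ)) (Nat.div_mul_cancel (hdvd (proj k' f x')))
    push_cast at this ⊢
    linear_combination (-(Z' (s (proj k' f x')))) * this
  · ext x
    have h1 := hY (s x)
    rw [hpull, hs] at h1
    show Y x = F x
    simp only [F]
    have := congrArg (Nat.cast (R := ℤ)) (Nat.div_mul_cancel (hdvd x))
    push_cast at this ⊢
    have hne : (l x : ℤ) ≠ 0 := by exact_mod_cast (hpos x).ne'
    refine mul_right_cancel₀ hne ?_
    linear_combination -h1 - (Z' (s x)) * this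

end GrothLib.CycGal13
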